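import Groth.Agent.SSMod.K625.FinGeo
import Groth.Agent.SSMod.K755.Plan
import Groth.Agent.S1297
import Groth.Agent.Sga7.H591.GeoFib

/-!
# Finiteness of the Stein factorization of a nodal family over a valuation ring
-/

set_option autoImplicit false
universe u
open CategoryTheory CategoryTheory.Limits AlgebraicGeometry TopologicalSpace TensorProduct

namespace K625.Fin

open K625.FinGeo

theorem isIntegral_app {X Y : Scheme.{u}} (f : X ⟶ Y) [UniversallyClosed f] (U : Y.Opens) (hU : IsAffineOpen U) :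
    (f.app U).hom.IsIntegral := by
  have : IsAffine U.toScheme := hU
  have h1 := isIntegral_appTop_of_universallyClosed (f ∣_ U)
  rw [morphismRestrict_appTop] at h1
  have h1' := (RingHom.isIntegral_respectsIso.{u}.cancel_right_isIso _ _).mp h1
  have e : U.ι ''ᵁ ⊤ = U := Scheme.Opens.ι_image_top U
  rwa [e] at h1'

theorem finite_app {X Y : Scheme.{u}} (f : X ⟶ Y) [IsProper f] (U : Y.Opens) (hU : IsAffineOpen U)
    (hN : IsNoetherianRing Γ(Y, U)) : (f.app U).hom.Finite := by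
  have : IsAffine U.toScheme := hU
  have : IsNoetherianRing Γ(U, ⊤) := by
    have : IsNoetherianRing Γ(Y, U.ι ''ᵁ ⊤) := by rwa [Scheme.Opens.ι_image_top]
    exact this
  have h1 := Groth.Agent.S1297.finite_appTop (f ∣_ U)
  rw [morphismRestrict_appTop] at h1
  have h1' := (RingHom.finite_respectsIso.{u}.cancel_right_isIso _ _).mp h1
  have e : U.ι ''ᵁ ⊤ = U := Scheme.Opens.ι_image_top U
  rwa [e] at h1'

/-- a finite type algebra in which the nonzero elements of the domain `R` are invertible is Noetherian. -/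
theorem isNoetherianRing_of_units (R A : Type u) [CommRing R] [IsDomain R] [CommRing A] [Algebra R A]
    [Algebra.FiniteType R A] (h : ∀ r : R, r ≠ 0 → IsUnit (algebraMap R A r)) : IsNoetherianRing A := by
  let f : FractionRing R →+* A := IsLocalization.lift (M := nonZeroDivisors R) (g := algebraMap R A)
    fun y => h y (nonZeroDivisors.ne_zero y.2)
  let _ : Algebra (FractionRing R) A := f.toAlgebra
  have : IsScalarTower R (FractionRing R) A :=
    IsScalarTower.of_algebraMap_eq fun r => (IsLocalization.lift_eq _ r).symm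
  have : Algebra.FiniteType (FractionRing R) A := Algebra.FiniteType.of_restrictScalars_finiteType R _ A
  exact Algebra.FiniteType.isNoetherianRing (FractionRing R) A

theorem isLocalization_of_eq {X : Scheme.{u}} {W W' : X.Opens} (hW : IsCompact W.1) (hW' : IsQuasiSeparated W.1)
    (f : Γ(X, W)) (i : W' ⟶ W) (e : W' = X.basicOpen f) :
    @IsLocalization.Away _ _ f Γ(X, W') _ (X.presheaf.map i.op).hom.toAlgebra := by
  subst e
  exact isLocalization_basicOpen_of_qcqs hW hW' f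

theorem exists_gen {R : Type u} [CommRing R] [IsDomain R] [Finite (PrimeSpectrum R)] {X P : Scheme.{u}}
    (p : X ⟶ Spec (CommRingCat.of R)) (r : P ⟶ Spec (CommRingCat.of R)) [LocallyOfFiniteType r] (ψ : X ⟶ P)
    [IsProper ψ] (h : ψ ≫ r = p) (U : P.Opens) (hU : IsAffineOpen U) [Algebra Γ(P, U) Γ(X, ψ ⁻¹ᵁ U)]
    (hal : algebraMap Γ(P, U) Γ(X, ψ ⁻¹ᵁ U) = (ψ.app U).hom) :
    ∃ s : Set Γ(X, ψ ⁻¹ᵁ U), s.Finite ∧ ∀ b, ∃ a : R, a ≠ 0 ∧
      sc p (ψ ⁻¹ᵁ U) a * b ∈ Submodule.span Γ(P, U) s := by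
  classical
  obtain ⟨ϖ, hϖ, hϖ'⟩ := exists_pi R
  let a : Γ(P, U) := sc r U ϖ
  let D := P.basicOpen a
  have hDU : D ≤ U := P.basicOpen_le a
  have hD : IsAffineOpen D := hU.basicOpen a
  have hN : IsNoetherianRing Γ(P, D) := by
    let _ : Algebra R Γ(P, D) := (sc r D).toAlgebra
    have : Algebra.FiniteType R Γ(P, D) := finiteType_sc r hD
    refine isNoetherianRing_of_units R Γ(P, D) fun c hc => ?_
    obtain ⟨n, s, hs⟩ := hϖ' c hc
    have h1 : IsUnit (sc r D ϖ) := by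
      rw [← map_sc r (homOfLE hDU) ϖ]
      exact RingedSpace.isUnit_res_basicOpen _ a
    have h2 : sc r D c * sc r D s = sc r D ϖ ^ n := by rw [← map_mul, hs, map_pow]
    exact isUnit_of_mul_isUnit_left (h2 ▸ h1.pow n)
  have hfin := finite_app ψ D hD hN
  let j : ψ ⁻¹ᵁ D ⟶ ψ ⁻¹ᵁ U := homOfLE (ψ.preimage_mono hDU)
  let _ : Algebra Γ(P, D) Γ(X, ψ ⁻¹ᵁ D) := (ψ.app D).hom.toAlgebra
  let _ : Algebra Γ(P, U) Γ(P, D) := (P.presheaf.map (homOfLE hDU).op).hom.toAlgebra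
  let _ : Algebra Γ(X, ψ ⁻¹ᵁ U) Γ(X, ψ ⁻¹ᵁ D) := (X.presheaf.map j.op).hom.toAlgebra
  let _ : Algebra Γ(P, U) Γ(X, ψ ⁻¹ᵁ D) := ((X.presheaf.map j.op).hom.comp (ψ.app U).hom).toAlgebra
  have : IsScalarTower Γ(P, U) Γ(X, ψ ⁻¹ᵁ U) Γ(X, ψ ⁻¹ᵁ D) := .of_algebraMap_eq fun x => by
    rw [hal]; rfl
  have : IsScalarTower Γ(P, U) Γ(P, D) Γ(X, ψ ⁻¹ᵁ D) := .of_algebraMap_eq fun x => by
    change (ψ.app U ≫ X.presheaf.map j.op).hom x = (P.presheaf.map (homOfLE hDU).op ≫ ψ.app D).hom x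
    rw [Scheme.Hom.naturality]
    rfl
  have hl1 : IsLocalization (Submonoid.powers a) Γ(P, D) := hU.isLocalization_basicOpen a
  have hl2 : IsLocalization ((Submonoid.powers a).map (algebraMap Γ(P, U) Γ(X, ψ ⁻¹ᵁ U))) Γ(X, ψ ⁻¹ᵁ D) := by
    rw [Submonoid.map_powers, hal]
    exact isLocalization_of_eq (ψ.isCompact_preimage hU.isCompact) (ψ.isQuasiSeparated_preimage hU.isQuasiSeparated)
      _ j (Scheme.preimage_basicOpen ψ a)
  have hmf : Module.Finite Γ(P, D) Γ(X, ψ ⁻¹ᵁ D) := hfin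
  obtain ⟨t, ht⟩ := hmf.fg_top
  refine ⟨_, (IsLocalization.finsetIntegerMultiple
    ((Submonoid.powers a).map (algebraMap Γ(P, U) Γ(X, ψ ⁻¹ᵁ U))) t).finite_toSet, fun b => ?_⟩
  obtain ⟨⟨_, n, rfl⟩, h1⟩ := multiple_mem_span_of_mem_localization_span (Submonoid.powers a) Γ(P, D)
    (t : Set Γ(X, ψ ⁻¹ᵁ D)) (algebraMap _ _ b) (by rw [ht]; trivial)
  obtain ⟨⟨_, m, rfl⟩, h2⟩ := IsLocalization.smul_mem_finsetIntegerMultiple_span (Submonoid.powers a) _
    (a ^ n • b) t (by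
      have h3 : algebraMap Γ(X, ψ ⁻¹ᵁ U) Γ(X, ψ ⁻¹ᵁ D) (a ^ n • b) = a ^ n • algebraMap _ Γ(X, ψ ⁻¹ᵁ D) b := by
        rw [Algebra.smul_def, map_mul, ← IsScalarTower.algebraMap_apply, ← Algebra.smul_def]
      rw [h3]
      exact h1)
  refine ⟨ϖ ^ (m + n), pow_ne_zero _ hϖ, ?_⟩
  convert h2 using 1
  change _ = a ^ m • a ^ n • b
  rw [smul_smul, ← pow_add, Algebra.smul_def, hal, map_pow, map_pow]
  congr 2
  exact (app_sc p ψ r h U ϖ).symm

theorem main : K755.SSPlan.Fin.{u} := by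
  intro R _ _ _ _ _ X P p hp r _ ψ _ hψ
  have hfl : Flat p := hp.1
  have hlfp : LocallyOfFinitePresentation p := hp.2.1
  have hgr : GeometricallyReduced p := Groth.Agent.Sga7.H591.GeoFib.geometricallyReduced p hp
  refine ⟨fun U hU => ?_⟩
  let _ : Algebra Γ(P, U) Γ(X, ψ ⁻¹ᵁ U) := (ψ.app U).hom.toAlgebra
  let _ : Algebra R Γ(P, U) := (sc r U).toAlgebra
  let _ : Algebra R Γ(X, ψ ⁻¹ᵁ U) := (sc p (ψ ⁻¹ᵁ U)).toAlgebra
  have hst : IsScalarTower R Γ(P, U) Γ(X, ψ ⁻¹ᵁ U) := .of_algebraMap_eq fun a => (app_sc p ψ r hψ U a).symm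
  have hft : Algebra.FiniteType R Γ(P, U) := finiteType_sc r hU
  have hmf : Module.Flat R Γ(X, ψ ⁻¹ᵁ U) := flat_of_flat p _
  have hint' : (ψ.app U).hom.IsIntegral := isIntegral_app ψ U hU
  have hint : Algebra.IsIntegral Γ(P, U) Γ(X, ψ ⁻¹ᵁ U) := ⟨hint'⟩
  obtain ⟨s, hs, hsg⟩ := exists_gen p r ψ hψ U hU rfl
  have hfin : Module.Finite Γ(P, U) Γ(X, ψ ⁻¹ᵁ U) := by
    refine FinAlg.main R Γ(P, U) Γ(X, ψ ⁻¹ᵁ U) ?_ ?_ s hs (fun b _ => hint.isIntegral b) hint hsg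
    · intro E _ _ hE
      have hEf : Module.Flat R E := FinAlg.flat_of_injective R E fun a m ha h => by
        rw [Algebra.smul_def] at h
        rcases mul_eq_zero.1 h with h' | h'
        · exact absurd (hE (h'.trans (map_zero _).symm)) ha
        · exact h'
      exact isReduced_tensor_qc p (ψ.isCompact_preimage hU.isCompact) rfl E
    · intro a b v ha h hv
      exact exists_div p (ψ ⁻¹ᵁ U) rfl ha h hv
  rw [Scheme.Hom.fromNormalization_app _ hU]
  have h3 : (algebraMap Γ(P, U) (integralClosure Γ(P, U) Γ(X, ψ ⁻¹ᵁ U))).Finite := by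
    rw [RingHom.finite_algebraMap]
    let f : Γ(X, ψ ⁻¹ᵁ U) →ₗ[Γ(P, U)] integralClosure Γ(P, U) Γ(X, ψ ⁻¹ᵁ U) :=
      LinearMap.codRestrict (Subalgebra.toSubmodule (integralClosure Γ(P, U) Γ(X, ψ ⁻¹ᵁ U))) LinearMap.id
        fun b => hint.isIntegral b
    exact Module.Finite.of_surjective f fun x => ⟨x.1, rfl⟩
  exact RingHom.finite_respectsIso.1 _ (ψ.normalizationObjIso hU).symm.commRingCatIsoToRingEquiv h3

end K625.Fin
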