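import Groth.Agent.FlatMor.K263.RFTop

/-!
# Finiteness of an integral closure over a valuation ring: reduction to the reduced fibre theorem
-/

set_option autoImplicit false
universe u
open TensorProduct
open scoped nonZeroDivisors

namespace K625.FinAlg

/-- a torsion free module over a valuation ring is flat. -/
theorem flat_of_injective (R : Type u) [CommRing R] [IsDomain R] [ValuationRing R] (M : Type u) [AddCommGroup M]
    [Module R M] (h : ∀ (r : R) (m : M), r ≠ 0 → r • m = 0 → m = 0) : Module.Flat R M := by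
  rw [Module.Flat.flat_iff_torsion_eq_bot_of_isBezout, eq_bot_iff]
  intro m hm
  obtain ⟨⟨r, hr⟩, hrm⟩ := hm
  exact h r m (nonZeroDivisors.ne_zero hr) hrm

theorem eq_zero_of_flat (R : Type u) [CommRing R] [IsDomain R] (M : Type u) [AddCommGroup M]
    [Module R M] [Module.Flat R M] {r : R} (hr : r ≠ 0) {m : M} (h : r • m = 0) : m = 0 := by
  have h1 : Function.Injective (LinearMap.lsmul R R r) := by
    intro a b hab
    exact mul_left_cancel₀ hr hab
  have h2 := Module.Flat.rTensor_preserves_injective_linearMap (M := M) _ h1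
  have h3 : (LinearMap.lsmul R R r).rTensor M ((1 : R) ⊗ₜ[R] m) = (LinearMap.lsmul R R r).rTensor M 0 := by
    rw [map_zero, LinearMap.rTensor_tmul]
    simp only [LinearMap.lsmul_apply, smul_eq_mul, mul_one]
    rw [← mul_one r, ← smul_eq_mul, TensorProduct.smul_tmul, h, TensorProduct.tmul_zero]
  have h4 := h2 h3
  have h5 := congrArg (TensorProduct.lid R M) h4
  rwa [TensorProduct.lid_tmul, one_smul, map_zero] at h5

section

variable (R : Type u) [CommRing R] [IsDomain R] (A B : Type u) [CommRing A] [CommRing B] [Algebra R A]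
  [Algebra R B] [Algebra A B] [IsScalarTower R A B] [Module.Flat R B]

/-- the localization of `B` at the nonzero elements of `R`. -/
abbrev Gen (B : Type u) [CommRing B] [Algebra R B] : Type u :=
  Localization (Algebra.algebraMapSubmonoid B (nonZeroDivisors R))

theorem injective_gen : Function.Injective (algebraMap B (Gen R B)) := by
  refine IsLocalization.injective (S := Gen R B) (M := Algebra.algebraMapSubmonoid B (nonZeroDivisors R)) ?_
  rintro _ ⟨r, hr, rfl⟩
  rw [mem_nonZeroDivisors_iff_right]
  intro b hb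
  refine eq_zero_of_flat R B (nonZeroDivisors.ne_zero hr) ?_
  rw [Algebra.smul_def, mul_comm]
  exact hb

theorem isUnit_gen {r : R} (hr : r ≠ 0) : IsUnit (algebraMap B (Gen R B) (algebraMap R B r)) :=
  IsLocalization.map_units (Gen R B) (⟨algebraMap R B r, r, mem_nonZeroDivisors_of_ne_zero hr, rfl⟩ :
    Algebra.algebraMapSubmonoid B (nonZeroDivisors R))

theorem exists_mul (v : Gen R B) : ∃ r : R, r ≠ 0 ∧ ∃ b : B,
    algebraMap B (Gen R B) (algebraMap R B r) * v = algebraMap B (Gen R B) b := by
  obtain ⟨⟨b, ⟨_, r, hr, rfl⟩⟩, h⟩ := IsLocalization.surj (Algebra.algebraMapSubmonoid B (nonZeroDivisors R)) v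
  exact ⟨r, nonZeroDivisors.ne_zero hr, b, by rw [mul_comm]; exact h⟩

theorem isLocalization_sub (S : Subalgebra A B) (hS : ∀ b : B, ∃ r : R, r ≠ 0 ∧ algebraMap R B r * b ∈ S) :
    IsLocalization (Algebra.algebraMapSubmonoid S (nonZeroDivisors R)) (Gen R B) := by
  have hmap : ∀ x : S, algebraMap S (Gen R B) x = algebraMap B (Gen R B) x := fun _ => rfl
  refine ⟨?_, ?_, ?_⟩
  · rintro ⟨_, r, hr, rfl⟩
    rw [hmap]
    exact isUnit_gen R B (nonZeroDivisors.ne_zero hr)
  · intro v
    obtain ⟨r, hr, b, hb⟩ := exists_mul R B v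
    obtain ⟨t, ht, hs⟩ := hS b
    refine ⟨⟨⟨_, hs⟩, ⟨algebraMap R S (r * t), r * t, mem_nonZeroDivisors_of_ne_zero (mul_ne_zero hr ht), rfl⟩⟩, ?_⟩
    rw [hmap, hmap]
    change v * algebraMap B (Gen R B) (algebraMap R B (r * t)) = algebraMap B (Gen R B) (algebraMap R B t * b)
    rw [map_mul, map_mul, map_mul, ← hb]
    ring
  · intro x y h
    refine ⟨1, ?_⟩
    rw [hmap, hmap] at h
    rw [Subtype.ext (injective_gen R B h)]

end

theorem main (R : Type u) [CommRing R] [IsDomain R] [ValuationRing R] [Finite (PrimeSpectrum R)]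
    [IsSepClosed (FractionRing R)]
    (A B : Type u) [CommRing A] [CommRing B] [Algebra R A] [Algebra R B] [Algebra A B] [IsScalarTower R A B]
    [Algebra.FiniteType R A] [Module.Flat R B]
    (hred : ∀ (E : Type u) [Field E] [Algebra R E], Function.Injective (algebraMap R E) →
      IsReduced (E ⊗[R] B))
    (hdiv : ∀ (r : R) (b : B) (v : Gen R B), r ≠ 0 →
      algebraMap B (Gen R B) (algebraMap R B r) * v = algebraMap B (Gen R B) b → IsIntegral B v →
        ∃ d, b = algebraMap R B r * d)
    (s : Set B) (hs : s.Finite) (hsi : ∀ b ∈ s, IsIntegral A b)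
    (hint : Algebra.IsIntegral A B)
    (hgen : ∀ b : B, ∃ r : R, r ≠ 0 ∧ algebraMap R B r * b ∈ Submodule.span A s) :
    Module.Finite A B := by
  let A₂ : Subalgebra A B := Algebra.adjoin A s
  have h1 : Module.Finite A A₂ := Algebra.finite_adjoin_of_finite_of_isIntegral hs hsi
  have hft : Algebra.FiniteType A A₂ := inferInstance
  have h2 : Algebra.FiniteType R A₂ := Algebra.FiniteType.trans (S := A) inferInstance hft
  have h3 : Module.Flat R A₂ := flat_of_injective R A₂ fun r m hr h => by
    apply Subtype.ext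
    exact eq_zero_of_flat R B hr (congrArg Subtype.val h)
  have h4 : ∀ (E : Type u) [Field E] [Algebra R E], Function.Injective (algebraMap R E) →
      IsReduced (E ⊗[R] A₂) := by
    intro E _ _ hE
    have hfl : Module.Flat R E := flat_of_injective R E fun r m hr h => by
      rw [Algebra.smul_def] at h
      rcases mul_eq_zero.1 h with h' | h'
      · exact absurd (hE (h'.trans (map_zero _).symm)) hr
      · exact h'
    have := hred E hE
    let ψ : E ⊗[R] A₂ →ₐ[R] E ⊗[R] B :=
      Algebra.TensorProduct.map (AlgHom.id R E) ((A₂.restrictScalars R).val)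
    have hψ : Function.Injective ψ :=
      Module.Flat.lTensor_preserves_injective_linearMap (M := E) ((A₂.restrictScalars R).val).toLinearMap
        Subtype.val_injective
    exact isReduced_of_injective ψ hψ
  have h5 := isLocalization_sub R A B A₂ fun b => by
    obtain ⟨r, hr, h⟩ := hgen b
    exact ⟨r, hr, Algebra.span_le_adjoin A s h⟩
  have h6 := K263.RFTop.finite R A₂ h4 (Gen R B)
  have h7 : Module.Finite A (integralClosure A₂ (Gen R B)) := Module.Finite.trans A₂ _
  have h8 : Algebra.IsIntegral A A₂ := inferInstance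
  -- every element of the integral closure comes from `B`
  have h9 : ∀ v ∈ integralClosure A₂ (Gen R B), ∃ d : B, algebraMap B (Gen R B) d = v := by
    intro v hv
    have hv' : IsIntegral A₂ v := hv
    obtain ⟨r, hr, b, hb⟩ := exists_mul R B v
    obtain ⟨d, hd⟩ := hdiv r b v hr hb hv'.tower_top
    refine ⟨d, ?_⟩
    apply (isUnit_gen R B hr).mul_left_cancel
    rw [hb, hd, map_mul]
  let f : B →ₗ[A] Gen R B := (IsScalarTower.toAlgHom A B (Gen R B)).toLinearMap
  have h10 : LinearMap.range f = (integralClosure A₂ (Gen R B)).toSubmodule.restrictScalars A := by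
    apply le_antisymm
    · rintro _ ⟨b, rfl⟩
      have h11 : IsIntegral A (algebraMap B (Gen R B) b) := (hint.isIntegral b).algebraMap
      exact h11.tower_top
    · intro v hv
      obtain ⟨d, hd⟩ := h9 v hv
      exact ⟨d, hd⟩
  have h12 : (LinearMap.range f).FG := by
    rw [h10]
    exact Module.Finite.iff_fg.1 h7
  refine ⟨Submodule.fg_of_fg_map_injective f (injective_gen R B) ?_⟩
  rw [Submodule.map_top]
  exact h12

end K625.FinAlg
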