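import Groth.Agent.SSMod.K625.FinAlg
import Groth.Agent.FlatMor.K263.IntClGeomRed
import Mathlib.AlgebraicGeometry.Geometrically.Reduced
import Mathlib.AlgebraicGeometry.Morphisms.Flat
import Mathlib.AlgebraicGeometry.Morphisms.QuasiSeparated

/-!
# Sections of a flat scheme with geometrically reduced fibres over a valuation ring
-/

set_option autoImplicit false
universe u
open CategoryTheory CategoryTheory.Limits AlgebraicGeometry TopologicalSpace TensorProduct

namespace K625.FinGeo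

/-- a nonzero element of a domain with finite spectrum contained in all nonzero primes. -/
theorem exists_pi (R : Type*) [CommRing R] [IsDomain R] [Finite (PrimeSpectrum R)] :
    ∃ π : R, π ≠ 0 ∧ ∀ r : R, r ≠ 0 → ∃ (n : ℕ) (s : R), r * s = π ^ n := by
  classical
  have := Fintype.ofFinite (PrimeSpectrum R)
  have h1 : ∀ p : PrimeSpectrum R, ∃ x : R, x ≠ 0 ∧ (p.asIdeal ≠ ⊥ → x ∈ p.asIdeal) := by
    intro p
    by_cases hp : p.asIdeal = ⊥
    · exact ⟨1, one_ne_zero, fun h => absurd hp h⟩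
    · obtain ⟨x, hx, hx0⟩ := Submodule.exists_mem_ne_zero_of_ne_bot hp
      exact ⟨x, hx0, fun _ => hx⟩
  choose x hx0 hx using h1
  refine ⟨∏ p, x p, Finset.prod_ne_zero_iff.2 fun p _ => hx0 p, fun r hr => ?_⟩
  have h2 : (∏ p, x p) ∈ (Ideal.span {r}).radical := by
    rw [Ideal.radical_eq_sInf, Submodule.mem_sInf]
    rintro q ⟨hq, hqp⟩
    have hne : q ≠ ⊥ := by
      rintro rfl
      exact hr (by simpa using hq (Ideal.mem_span_singleton_self r))
    have h3 : x ⟨q, hqp⟩ ∈ q := hx ⟨q, hqp⟩ hne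
    exact Ideal.mem_of_dvd _ (Finset.dvd_prod_of_mem x (Finset.mem_univ _)) h3
  obtain ⟨n, hn⟩ := h2
  obtain ⟨s, hs⟩ := Ideal.mem_span_singleton.1 hn
  exact ⟨n, s, hs.symm⟩

variable {R : Type u} [CommRing R] {X : Scheme.{u}} (p : X ⟶ Spec (CommRingCat.of R))

/-- the scalars -/
noncomputable def sc (W : X.Opens) : R →+* Γ(X, W) :=
  ((Scheme.ΓSpecIso (CommRingCat.of R)).inv ≫ p.appLE ⊤ W le_top).hom

theorem map_sc {W W' : X.Opens} (i : W' ⟶ W) (r : R) : X.presheaf.map i.op (sc p W r) = sc p W' r := by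
  rw [sc, sc, ← CommRingCat.comp_apply, Category.assoc, Scheme.Hom.appLE_map]

theorem app_sc {P : Scheme.{u}} (ψ : X ⟶ P) (r : P ⟶ Spec (CommRingCat.of R)) (h : ψ ≫ r = p) (U : P.Opens) (a : R) :
    ψ.app U (sc r U a) = sc p (ψ ⁻¹ᵁ U) a := by
  subst h
  rw [sc, sc, ← CommRingCat.comp_apply, Category.assoc, Scheme.Hom.app_eq_appLE ψ, Scheme.Hom.appLE_comp_appLE]

theorem fromSpec_comp {W : X.Opens} (hW : IsAffineOpen W) :
    hW.fromSpec ≫ p = Spec.map (CommRingCat.ofHom (sc p W)) := by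
  rw [← IsAffineOpen.SpecMap_appLE_fromSpec p (isAffineOpen_top _) hW le_top, IsAffineOpen.fromSpec_top,
    Scheme.isoSpec_Spec_inv, ← Spec.map_comp]
  rfl

theorem flat_sc [Flat p] {W : X.Opens} (hW : IsAffineOpen W) : (sc p W).Flat := by
  have h : Flat (Spec.map (CommRingCat.ofHom (sc p W))) := by
    rw [← fromSpec_comp p hW]
    infer_instance
  exact (HasRingHomProperty.Spec_iff (P := @Flat)).1 h

theorem finitePresentation_sc [LocallyOfFinitePresentation p] {W : X.Opens} (hW : IsAffineOpen W) :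
    (sc p W).FinitePresentation := by
  have h : LocallyOfFinitePresentation (Spec.map (CommRingCat.ofHom (sc p W))) := by
    rw [← fromSpec_comp p hW]
    infer_instance
  exact (HasRingHomProperty.Spec_iff (P := @LocallyOfFinitePresentation)).1 h

theorem finiteType_sc [LocallyOfFiniteType p] {W : X.Opens} (hW : IsAffineOpen W) :
    (sc p W).FiniteType := by
  have h : LocallyOfFiniteType (Spec.map (CommRingCat.ofHom (sc p W))) := by
    rw [← fromSpec_comp p hW]
    infer_instance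
  exact (HasRingHomProperty.Spec_iff (P := @LocallyOfFiniteType)).1 h

theorem isReduced_tensor [GeometricallyReduced p] {W : X.Opens} (hW : IsAffineOpen W) [Algebra R Γ(X, W)]
    (ha : algebraMap R Γ(X, W) = sc p W) (E : Type u) [Field E] [Algebra R E] :
    _root_.IsReduced (Γ(X, W) ⊗[R] E) := by
  have h1 : IsPullback (Spec.map (CommRingCat.ofHom (algebraMap Γ(X, W) (Γ(X, W) ⊗[R] E))))
      (Spec.map (CommRingCat.ofHom (Algebra.TensorProduct.includeRight (R := R) (A := Γ(X, W))
        (B := E)).toRingHom)) (Spec.map (CommRingCat.ofHom (algebraMap R Γ(X, W))))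
      (Spec.map (CommRingCat.ofHom (algebraMap R E))) :=
    isPullback_SpecMap_of_isPushout _ _ _ _ (CommRingCat.isPushout_tensorProduct R Γ(X, W) E)
  rw [ha, ← fromSpec_comp p hW] at h1
  let j : Spec (CommRingCat.of E) ⟶ Spec (CommRingCat.of R) := Spec.map (CommRingCat.ofHom (algebraMap R E))
  have h2 : IsReduced (pullback p j) :=
    GeometricallyReduced.geometrically_isReduced (f := p) j _ _ (IsPullback.of_hasPullback p j)
  have h3 := IsPullback.of_hasPullback p j
  let k : Spec (CommRingCat.of (Γ(X, W) ⊗[R] E)) ⟶ pullback p j :=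
    h3.lift (Spec.map (CommRingCat.ofHom (algebraMap Γ(X, W) (Γ(X, W) ⊗[R] E))) ≫ hW.fromSpec)
      (Spec.map (CommRingCat.ofHom (Algebra.TensorProduct.includeRight (R := R) (A := Γ(X, W))
        (B := E)).toRingHom)) (by rw [Category.assoc]; exact h1.w)
  have hk1 : k ≫ pullback.fst p j = Spec.map (CommRingCat.ofHom (algebraMap Γ(X, W) (Γ(X, W) ⊗[R] E))) ≫
      hW.fromSpec := h3.lift_fst _ _ _
  have hk2 : k ≫ pullback.snd p j = _ := h3.lift_snd _ _ _
  have h4 : IsPullback k (Spec.map (CommRingCat.ofHom (algebraMap Γ(X, W) (Γ(X, W) ⊗[R] E))))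
      (pullback.fst p j) hW.fromSpec := by
    refine IsPullback.flip (IsPullback.of_bot ?_ hk1.symm h3)
    rw [hk2]
    exact h1
  have h5 : IsOpenImmersion k := MorphismProperty.of_isPullback (P := @IsOpenImmersion) h4.flip inferInstance
  have h6 : IsReduced (Spec (CommRingCat.of (Γ(X, W) ⊗[R] E))) := isReduced_of_isOpenImmersion k
  exact (affine_isReduced_iff _).1 h6

/-- sections are determined on affine opens. -/
theorem eq_of_affine {X : Scheme.{u}} {W : X.Opens} {s t : Γ(X, W)}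
    (h : ∀ (V : X.Opens) (_ : IsAffineOpen V) (i : V ⟶ W), X.presheaf.map i.op s = X.presheaf.map i.op t) :
    s = t := by
  refine X.sheaf.eq_of_locally_eq' (fun V : {V : X.affineOpens // V.1 ≤ W} => V.1.1) W (fun V => homOfLE V.2)
    ?_ s t fun V => h V.1.1 V.1.2 (homOfLE V.2)
  intro x hx
  obtain ⟨V, hV, hxV, hVW⟩ := exists_isAffineOpen_mem_and_subset (x := x) (U := W) hx
  exact Opens.mem_iSup.2 ⟨⟨⟨V, hV⟩, hVW⟩, hxV⟩

section

variable [IsDomain R]

theorem eq_zero_of_sc_mul [Flat p] {W : X.Opens} {r : R} (hr : r ≠ 0) {b : Γ(X, W)} (h : sc p W r * b = 0) :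
    b = 0 := by
  refine eq_of_affine fun V hV i => ?_
  rw [map_zero]
  let _ : Algebra R Γ(X, V) := (sc p V).toAlgebra
  have hfl : Module.Flat R Γ(X, V) := flat_sc p hV
  refine FinAlg.eq_zero_of_flat R Γ(X, V) hr ?_
  rw [Algebra.smul_def]
  change sc p V r * X.presheaf.map i.op b = 0
  rw [← map_sc p i, ← map_mul, h, map_zero]

theorem flat_of_flat [ValuationRing R] [Flat p] (W : X.Opens) : @Module.Flat R Γ(X, W) _ _ (sc p W).toAlgebra.toModule := by
  let _ : Algebra R Γ(X, W) := (sc p W).toAlgebra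
  refine FinAlg.flat_of_injective R Γ(X, W) fun r m hr h => ?_
  rw [Algebra.smul_def] at h
  exact eq_zero_of_sc_mul p hr h

theorem exists_div_affine [IsIntegrallyClosed R] [Flat p] [LocallyOfFinitePresentation p] [GeometricallyReduced p]
    {W : X.Opens} (hW : IsAffineOpen W) {B : Type u} [CommRing B] (f : Γ(X, W) →+* B) (hf : Function.Injective f)
    {r : R} (hr : r ≠ 0) {b : Γ(X, W)} {v : B} (h : f (sc p W r) * v = f b) (hv : f.IsIntegralElem v) :
    ∃ d, b = sc p W r * d := by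
  let _ : Algebra R Γ(X, W) := (sc p W).toAlgebra
  let _ : Algebra Γ(X, W) B := f.toAlgebra
  have hfl : Module.Flat R Γ(X, W) := flat_sc p hW
  have hfp : Algebra.FinitePresentation R Γ(X, W) := finitePresentation_sc p hW
  exact K263.IntClGeomRed.exists_eq_mul_of_isIntegral (R := R) (A := Γ(X, W))
    (K263.IntClGeomRed.geomAtAlg_of_isReduced fun E _ _ => isReduced_tensor p hW rfl E) (B := B) hf hr hv h

theorem exists_div [IsIntegrallyClosed R] [Flat p] [LocallyOfFinitePresentation p] [GeometricallyReduced p]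
    (W : X.Opens) [Algebra R Γ(X, W)] (ha : algebraMap R Γ(X, W) = sc p W)
    {r : R} (hr : r ≠ 0) {b : Γ(X, W)} {v : FinAlg.Gen R Γ(X, W)}
    (h : algebraMap Γ(X, W) (FinAlg.Gen R Γ(X, W)) (algebraMap R Γ(X, W) r) * v = algebraMap _ _ b)
    (hv : IsIntegral Γ(X, W) v) : ∃ d, b = algebraMap R Γ(X, W) r * d := by
  have key : ∀ (V : X.Opens) (_ : IsAffineOpen V) (i : V ⟶ W), ∃ d, X.presheaf.map i.op b = sc p V r * d := by
    intro V hV i
    let _ : Algebra R Γ(X, V) := (sc p V).toAlgebra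
    have hfl : Module.Flat R Γ(X, V) := flat_sc p hV
    let φ : FinAlg.Gen R Γ(X, W) →+* FinAlg.Gen R Γ(X, V) :=
      IsLocalization.map (M := Algebra.algebraMapSubmonoid Γ(X, W) (nonZeroDivisors R))
        (T := Algebra.algebraMapSubmonoid Γ(X, V) (nonZeroDivisors R)) (FinAlg.Gen R Γ(X, V))
        (X.presheaf.map i.op).hom (by
          rintro _ ⟨a, ha', rfl⟩
          refine ⟨a, ha', ?_⟩
          rw [ha]
          exact (map_sc p i a).symm)
    have hφ : ∀ a, φ (algebraMap _ _ a) = algebraMap Γ(X, V) (FinAlg.Gen R Γ(X, V)) (X.presheaf.map i.op a) :=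
      fun a => IsLocalization.map_eq _ a
    refine exists_div_affine p hV (algebraMap Γ(X, V) (FinAlg.Gen R Γ(X, V))) (FinAlg.injective_gen R Γ(X, V)) hr
      (v := φ v) ?_ ?_
    · rw [← map_sc p i r, ← hφ, ← map_mul, ← ha, h, hφ]
    · obtain ⟨P, hP, hPv⟩ := hv
      refine ⟨P.map (X.presheaf.map i.op).hom, hP.map _, ?_⟩
      rw [Polynomial.eval₂_map]
      have h2 : (algebraMap Γ(X, V) (FinAlg.Gen R Γ(X, V))).comp (X.presheaf.map i.op).hom =
          φ.comp (algebraMap Γ(X, W) (FinAlg.Gen R Γ(X, W))) := RingHom.ext fun a => (hφ a).symm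
      rw [h2, ← Polynomial.hom_eval₂, hPv, map_zero]
  let ι := {V : X.affineOpens // V.1 ≤ W}
  choose d hd using fun V : ι => key V.1.1 V.1.2 (homOfLE V.2)
  have hcompat : ∀ V V' : ι, X.presheaf.map (Opens.infLELeft V.1.1 V'.1.1).op (d V) =
      X.presheaf.map (Opens.infLERight V.1.1 V'.1.1).op (d V') := by
    intro V V'
    rw [← sub_eq_zero]
    apply eq_zero_of_sc_mul p hr
    rw [mul_sub, sub_eq_zero]
    have h1 : ∀ (Z : ι) (i : (V.1.1 ⊓ V'.1.1 : X.Opens) ⟶ (Z.1.1 : X.Opens)),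
        sc p (V.1.1 ⊓ V'.1.1) r * X.presheaf.map i.op (d Z) = X.presheaf.map (i ≫ homOfLE Z.2).op b := by
      intro Z i
      rw [← map_sc p i r, ← map_mul, ← hd Z, op_comp, Functor.map_comp]
      rfl
    exact (h1 V _).trans (h1 V' _).symm
  obtain ⟨s, hs, -⟩ := X.sheaf.existsUnique_gluing' (fun V : ι => V.1.1) W (fun V => homOfLE V.2) (by
    intro x hx
    obtain ⟨V, hV, hxV, hVW⟩ := exists_isAffineOpen_mem_and_subset (x := x) (U := W) hx
    exact Opens.mem_iSup.2 ⟨⟨⟨V, hV⟩, hVW⟩, hxV⟩) d (fun V V' => hcompat V V')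
  refine ⟨s, eq_of_affine fun V hV i => ?_⟩
  rw [ha, map_mul, map_sc]
  have h3 := hd ⟨⟨V, hV⟩, i.le⟩
  have h4 := hs ⟨⟨V, hV⟩, i.le⟩
  exact h3.trans (congrArg (fun z => sc p V r * z) h4.symm)

end

section tensor

/-- reducedness of `E ⊗ Γ(X, W)` for `W` quasi-compact. -/
theorem isReduced_tensor_qc [GeometricallyReduced p] {W : X.Opens} (hW : IsCompact (W : Set X)) [Algebra R Γ(X, W)]
    (ha : algebraMap R Γ(X, W) = sc p W) (E : Type u) [Field E] [Algebra R E] [Module.Flat R E] :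
    _root_.IsReduced (E ⊗[R] Γ(X, W)) := by
  classical
  obtain ⟨s, hs, hWs⟩ := (isCompact_iff_finite_and_eq_biUnion_affineOpens (U := W)).1 hW
  have := hs.fintype
  have hle : ∀ V : s, V.1.1 ≤ W := fun V => by
    rw [hWs]
    exact le_biSup (fun V : X.affineOpens => (V : X.Opens)) V.2
  let _ : ∀ V : s, Algebra R Γ(X, V.1.1) := fun V => (sc p V.1.1).toAlgebra
  let res : ∀ V : s, Γ(X, W) →ₐ[R] Γ(X, V.1.1) := fun V =>
    { (X.presheaf.map (homOfLE (hle V)).op).hom with
      commutes' := fun r => by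
        change X.presheaf.map (homOfLE (hle V)).op (algebraMap R Γ(X, W) r) = sc p V.1.1 r
        rw [ha, map_sc] }
  let f : Γ(X, W) →ₗ[R] ∀ V : s, Γ(X, V.1.1) := LinearMap.pi fun V => (res V).toLinearMap
  have hf : Function.Injective f := by
    intro a b hab
    refine X.sheaf.eq_of_locally_eq' (fun V : s => V.1.1) W (fun V => homOfLE (hle V)) ?_ a b fun V =>
      congrFun hab V
    intro x hx
    have hx' : x ∈ ⨆ i ∈ s, (i : X.Opens) := hWs ▸ hx
    simp only [Opens.mem_iSup] at hx'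
    obtain ⟨V, hV, hxV⟩ := hx'
    exact Opens.mem_iSup.2 ⟨⟨V, hV⟩, hxV⟩
  have hfE : Function.Injective (f.lTensor E) := Module.Flat.lTensor_preserves_injective_linearMap f hf
  refine ⟨fun x hx => ?_⟩
  apply hfE
  rw [map_zero]
  apply (TensorProduct.piRight R R E (fun V : s => Γ(X, V.1.1))).injective
  rw [map_zero]
  funext V
  have h1 : ∀ y, TensorProduct.piRight R R E (fun V : s => Γ(X, V.1.1)) (f.lTensor E y) V =
      Algebra.TensorProduct.map (AlgHom.id R E) (res V) y := by
    intro y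
    induction y using TensorProduct.induction_on with
    | zero => simp
    | tmul a b => rfl
    | add a b ha hb => rw [map_add, map_add, Pi.add_apply, ha, hb, map_add]
  rw [h1]
  have h2 : _root_.IsReduced (E ⊗[R] Γ(X, V.1.1)) := by
    have := isReduced_tensor p V.1.2 rfl E
    exact isReduced_of_injective (Algebra.TensorProduct.comm R E Γ(X, V.1.1))
      (Algebra.TensorProduct.comm R E Γ(X, V.1.1)).injective
  exact (hx.map (Algebra.TensorProduct.map (AlgHom.id R E) (res V))).eq_zero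

end tensor

end K625.FinGeo
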